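import Groth.Agent.LocDimBC.Alg
import Groth.Agent.FibreDimEt.Top
import Mathlib.AlgebraicGeometry.Fiber
/-!
Fibre dimensions do not change under base change.
-/

set_option autoImplicit false
set_option backward.isDefEq.respectTransparency false
universe u

open CategoryTheory CategoryTheory.Limits AlgebraicGeometry Topology TensorProduct

namespace Groth.Agent.LocDimBC

/-- Local dimension is computed on any open subscheme. -/
theorem localDim_openImmersion {A B : Scheme.{u}} (j : A ⟶ B) [IsOpenImmersion j] (a : A) :
    FlatMor.localDim B (j a) = FlatMor.localDim A a :=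
  (FibreDimEt.localDim_eq_of_isGenLift (FibreDimEt.isGenLift_of_isOpenEmbedding j.isOpenEmbedding)
    j.isOpenEmbedding.isOpenMap a).symm

/-- Local dimension of a scheme locally of finite type over a field is invariant under field extension. -/
theorem localDim_fieldExtension {Z Z' : Scheme.{u}} {k K : Type u} [Field k] [Field K]
    {π : Z ⟶ Spec (CommRingCat.of k)} [LocallyOfFiniteType π] {π' : Z' ⟶ Spec (CommRingCat.of K)} {m : Z' ⟶ Z}
    {ι : Spec (CommRingCat.of K) ⟶ Spec (CommRingCat.of k)} (sq : IsPullback m π' π ι) (z : Z') :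
    FlatMor.localDim Z' z = FlatMor.localDim Z (m z) := by
  obtain ⟨φ, rfl⟩ := Spec.map_surjective ι
  letI : Algebra k K := φ.hom.toAlgebra
  obtain ⟨_, ⟨V₀, hV, rfl⟩, hzV, -⟩ := Z.isBasis_affineOpens.exists_subset_of_mem_open (Set.mem_univ (m z)) isOpen_univ
  let V : Z.Opens := V₀
  let S : Type u := Γ(Z, V)
  let j : Spec (CommRingCat.of S) ⟶ Z := IsAffineOpen.fromSpec (U := V) hV
  haveI : IsOpenImmersion j := IsAffineOpen.isOpenImmersion_fromSpec (U := V) hV
  let ψ : CommRingCat.of k ⟶ CommRingCat.of S := Spec.preimage (j ≫ π)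
  letI : Algebra k S := ψ.hom.toAlgebra
  have hj : j ≫ π = Spec.map (CommRingCat.ofHom (algebraMap k S)) := by
    rw [← Spec.map_preimage (j ≫ π)]; rfl
  haveI : Algebra.FiniteType k S := by
    have h : LocallyOfFiniteType (Spec.map (CommRingCat.ofHom (algebraMap k S))) := hj ▸ inferInstance
    exact RingHom.finiteType_algebraMap.mp ((HasRingHomProperty.Spec_iff (P := @LocallyOfFiniteType)).mp h)
  let P := pullback (Spec.map (CommRingCat.ofHom (algebraMap k K))) (Spec.map (CommRingCat.ofHom (algebraMap k S)))
  let W := pullback m j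
  haveI : IsOpenImmersion (pullback.fst m j) := inferInstance
  have sqW : IsPullback (pullback.fst m j ≫ π') (pullback.snd m j) (Spec.map φ) (j ≫ π) :=
    (IsPullback.of_hasPullback m j).flip.paste_vert sq |>.flip |> fun h => h
  obtain ⟨w, hw, -⟩ := Scheme.Pullback.exists_preimage_pullback (f := m) (g := j) z
    ((Classical.choose (show m z ∈ Set.range j by
      show m z ∈ Set.range (IsAffineOpen.fromSpec (U := V) hV); rw [IsAffineOpen.range_fromSpec]; exact hzV)))
    (Classical.choose_spec (show m z ∈ Set.range j by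
      show m z ∈ Set.range (IsAffineOpen.fromSpec (U := V) hV); rw [IsAffineOpen.range_fromSpec]; exact hzV)).symm
  rw [hj] at sqW
  let e : W ≅ Spec (CommRingCat.of (K ⊗[k] S)) := sqW.isoPullback ≪≫ pullbackSpecIso k K S
  have he : e.hom ≫ Spec.map (CommRingCat.ofHom (Algebra.TensorProduct.includeRight : S →ₐ[k] K ⊗[k] S).toRingHom) =
      pullback.snd m j := by
    rw [Iso.trans_hom, Category.assoc]
    erw [pullbackSpecIso_hom_snd]
    exact sqW.isoPullback_hom_snd
  rw [← hw, localDim_openImmersion, ← localDim_openImmersion e.hom w,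
    show m (pullback.fst m j w) = j (pullback.snd m j w) from
      (Scheme.Hom.comp_apply _ _ _).symm.trans ((congrArg (fun g : W ⟶ Z => g w) pullback.condition).trans
        (Scheme.Hom.comp_apply _ _ _)),
    localDim_openImmersion j, ← he, Scheme.Hom.comp_apply]
  exact localDim_tensor (k := k) (S := S) K (e.hom w)

/-- Fibre dimensions do not change under base change. -/
theorem fibreDimAt_baseChange {X S X' S' : Scheme.{u}} {f : X ⟶ S} [LocallyOfFiniteType f] {g : S' ⟶ S}
    {g' : X' ⟶ X} {f' : X' ⟶ S'} (sq : IsPullback g' f' f g) (x' : X') :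
    FlatMor.fibreDimAt f' x' = FlatMor.fibreDimAt f (g' x') := by
  let y := f' x'
  have hfib := isPullback_fiberToSpecResidueField_of_isPullback sq y
  have H : ∀ (s : S) (hs : f (g' x') = s) (p : f.fiber s), f.fiberι s p = g' x' →
      FlatMor.localDim (f.fiber s) p = FlatMor.fibreDimAt f (g' x') := by
    intro s hs p hp
    subst hs
    rw [show p = f.asFiber (g' x') from (f.fiberι _).isEmbedding.injective (hp.trans (f.fiberι_asFiber _).symm)]
    rfl
  haveI : LocallyOfFiniteType (f.fiberToSpecResidueField (g y)) := MorphismProperty.pullback_snd _ _ ‹_›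
  show FlatMor.localDim (f'.fiber y) (f'.asFiber x') = _
  refine (localDim_fieldExtension (k := S.residueField (g y)) (K := S'.residueField y) hfib (f'.asFiber x')).trans ?_
  refine H _ ?_ _ ?_
  · rw [← Scheme.Hom.comp_apply, sq.w, Scheme.Hom.comp_apply]
  · refine ((Scheme.Hom.comp_apply _ _ _).symm.trans (congrArg (fun h : f'.fiber y ⟶ X => h (f'.asFiber x')) (pullback.lift_fst _ _ _))).trans ?_
    show g' (f'.fiberι y (f'.asFiber x')) = g' x'
    rw [f'.fiberι_asFiber]

end Groth.Agent.LocDimBC
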