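import Groth.Agent.LocDimBC.Scheme
import Groth.Agent.DimFormulaLib.Field
/-!
Irreducible components and local dimensions over a field.
-/

set_option autoImplicit false
set_option backward.isDefEq.respectTransparency false
universe u

open CategoryTheory CategoryTheory.Limits AlgebraicGeometry Topology

namespace Groth.Agent.LocDimBC

/-- At the generic point of a component the local dimension is the dimension of the component. -/
theorem dim_component {F : Scheme.{u}} {k : Type u} [Field k] (f : F ⟶ Spec (CommRingCat.of k))
    [LocallyOfFiniteType f] (z : F) (hz : ∀ w : F, w ⤳ z → w = z) :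
    topologicalKrullDim ↥(closure ({z} : Set F)) = FlatMor.localDim F z := by
  obtain ⟨a, t, ha, -, hloc, hh⟩ := DimFormulaLib.field_dims f z
  have ha0 : a = 0 := by
    have h0 : Order.coheight z = 0 := Order.coheight_eq_zero.2 fun w hw =>
      le_of_eq (hz w (Scheme.le_iff_specializes.1 hw))
    rw [ringKrullDim_stalk_eq_coheight, h0] at ha
    exact_mod_cast ha.symm
  rw [DimFormulaLib.topologicalKrullDim_closure_singleton, hh, hloc, ha0, zero_add]
  rfl

/-- Equidimensionality is stable under extension of the ground field. -/
theorem dim_component_fieldExtension {Z Z' : Scheme.{u}} {k K : Type u} [Field k] [Field K]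
    {π : Z ⟶ Spec (CommRingCat.of k)} [LocallyOfFiniteType π] {π' : Z' ⟶ Spec (CommRingCat.of K)} {m : Z' ⟶ Z}
    {ι : Spec (CommRingCat.of K) ⟶ Spec (CommRingCat.of k)} (sq : IsPullback m π' π ι) (d : WithBot ℕ∞)
    (hd : ∀ T ∈ irreducibleComponents (Z : Type u), topologicalKrullDim T = d) :
    ∀ T ∈ irreducibleComponents (Z' : Type u), topologicalKrullDim T = d := by
  intro T hT
  obtain ⟨z, rfl, hz⟩ := DimFormulaLib.exists_generic_of_mem_irreducibleComponents hT
  haveI : LocallyOfFiniteType π' := MorphismProperty.of_isPullback sq ‹_›
  haveI : IsIntegral (Spec (CommRingCat.of k)) := inferInstance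
  haveI : Flat m := MorphismProperty.of_isPullback sq.flip (inferInstance : Flat ι)
  have hmz : ∀ w : Z, w ⤳ m z → w = m z := by
    intro w hw
    obtain ⟨w', hw', rfl⟩ := (Flat.generalizingMap m) hw
    rw [hz w' hw']
  rw [dim_component π' z hz, localDim_fieldExtension sq z, ← dim_component π (m z) hmz]
  exact hd _ (DimFormulaLib.closure_mem_irreducibleComponents hmz)

end Groth.Agent.LocDimBC
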