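import Groth.Agent.DimFormulaLib.LocalDim
import Groth.Agent.GrSegreLib.Upper
/-!
Local dimension and extension of the ground field.
-/

set_option autoImplicit false
universe u

open TensorProduct

noncomputable section

namespace Groth.Agent.LocDimBC

open Groth.Agent.DimFormulaLib

/-- A finite torsion-free module over a domain embeds in a finite free module. -/
theorem exists_embedding (A D : Type u) [CommRing A] [IsDomain A] [CommRing D] [IsDomain D] [Algebra A D]
    [Module.Finite A D] (hinj : Function.Injective (algebraMap A D)) :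
    ∃ (N : ℕ) (φ : D →ₗ[A] (Fin N → A)), Function.Injective φ := by
  classical
  haveI : FaithfulSMul A D := (faithfulSMul_iff_algebraMap_injective A D).2 hinj
  obtain ⟨s, hs⟩ := Module.Finite.fg_top (R := A) (M := D)
  obtain ⟨I, hI, hmax⟩ := exists_maximal_linearIndepOn A (fun x : s => (x : D))
  haveI : Fintype I := Fintype.ofFinite I
  let e : Fin (Fintype.card I) ≃ I := (Fintype.equivFin I).symm
  let v : Fin (Fintype.card I) → D := fun i => ((e i).1 : D)
  have hv : LinearIndependent A v := hI.comp e e.injective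
  have hspan : ∀ x : s, ∃ a : A, a ≠ 0 ∧ a • (x : D) ∈ Submodule.span A (Set.range v) := by
    intro x
    have hr : Submodule.span A (Set.range v) = Submodule.span A ((fun x : s => (x : D)) '' I) := by
      congr 1
      ext y
      constructor
      · rintro ⟨i, rfl⟩; exact ⟨_, (e i).2, rfl⟩
      · rintro ⟨z, hz, rfl⟩; exact ⟨e.symm ⟨z, hz⟩, by simp [v]⟩
    rw [hr]
    by_cases hx : x ∈ I
    · exact ⟨1, one_ne_zero, by rw [one_smul]; exact Submodule.subset_span ⟨x, hx, rfl⟩⟩
    · exact hmax x hx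
  choose a ha ha' using hspan
  let c := ∏ x, a x
  have hc : c ≠ 0 := Finset.prod_ne_zero_iff.2 fun x _ => ha x
  have hcs : ∀ z : D, c • z ∈ Submodule.span A (Set.range v) := by
    intro z
    have hz : z ∈ Submodule.span A (s : Set D) := by rw [hs]; trivial
    induction hz using Submodule.span_induction with
    | mem x hx =>
      obtain ⟨b, hb⟩ : a ⟨x, hx⟩ ∣ c := Finset.dvd_prod_of_mem a (Finset.mem_univ _)
      rw [hb, mul_comm, mul_smul]
      exact Submodule.smul_mem _ _ (ha' ⟨x, hx⟩)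
    | zero => simp
    | add x y _ _ h h' => rw [smul_add]; exact add_mem h h'
    | smul r x _ h => rw [smul_comm]; exact Submodule.smul_mem _ _ h
  let mc : D →ₗ[A] Submodule.span A (Set.range v) := LinearMap.codRestrict _ (c • LinearMap.id) hcs
  refine ⟨_, (Finsupp.linearEquivFunOnFinite A A _).toLinearMap ∘ₗ hv.repr ∘ₗ mc, ?_⟩
  intro x y hxy
  simp only [LinearMap.comp_apply, LinearEquiv.coe_coe, EmbeddingLike.apply_eq_iff_eq] at hxy
  have h := congrArg (Finsupp.linearCombination A v) hxy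
  rw [hv.linearCombination_repr, hv.linearCombination_repr] at h
  have h' : c • x = c • y := h
  exact smul_right_injective D hc h'

variable {k : Type u} [Field k] (K : Type u) [Field K] [Algebra k K] {D : Type u} [CommRing D] [IsDomain D]
  [Algebra k D] [Algebra.FiniteType k D]

/-- The minimal primes of a domain after extending the ground field keep its dimension. -/
theorem ringKrullDim_minimalPrime (P : Ideal (K ⊗[k] D)) (hP : P ∈ minimalPrimes (K ⊗[k] D)) :
    ringKrullDim ((K ⊗[k] D) ⧸ P) = ringKrullDim D := by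
  haveI := (hP : P ∈ (⊥ : Ideal (K ⊗[k] D)).minimalPrimes).1.1
  obtain ⟨m, f, hf, hfin⟩ := exists_finite_inj_algHom_of_fg k D
  let A := MvPolynomial (Fin m) k
  letI : Algebra A D := f.toRingHom.toAlgebra
  haveI : IsScalarTower k A D := IsScalarTower.of_algebraMap_eq fun x => (f.commutes x).symm
  haveI : Module.Finite A D := hfin
  obtain ⟨N, φ, hφ⟩ := exists_embedding A D hf
  haveI : IsDomain (K ⊗[k] A) := (MvPolynomial.algebraTensorAlgEquiv k K).toRingEquiv.toMulEquiv.isDomain _
  let G : K ⊗[k] A →ₐ[K] K ⊗[k] D := Algebra.TensorProduct.map (AlgHom.id K K) f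
  let ψ : Fin N → (K ⊗[k] D →ₗ[k] K ⊗[k] A) := fun i =>
    (((LinearMap.proj i).comp φ).restrictScalars k).lTensor K
  have hψ : ∀ (i : Fin N) (c : K ⊗[k] A) (z : K ⊗[k] D), ψ i (G c * z) = c * ψ i z := by
    intro i c z
    induction c with
    | zero => simp
    | add c c' h h' => simp [add_mul, h, h']
    | tmul l a =>
      induction z with
      | zero => simp
      | add z z' h h' => rw [mul_add, map_add, h, h', map_add, mul_add]
      | tmul l' d =>
        simp only [G, ψ, Algebra.TensorProduct.map_tmul, Algebra.TensorProduct.tmul_mul_tmul, AlgHom.coe_id, id_eq,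
          LinearMap.lTensor_tmul, LinearMap.coe_restrictScalars, LinearMap.comp_apply, LinearMap.proj_apply]
        congr 1
        have h : φ (f a * d) = a • φ d := φ.map_smul a d
        rw [h]; rfl
  have hψinj : ∀ z, (∀ i, ψ i z = 0) → z = 0 := by
    intro z hz
    apply Module.Flat.lTensor_preserves_injective_linearMap (M := K) (φ.restrictScalars k) hφ
    rw [map_zero]
    apply (TensorProduct.piRight k k K (fun _ : Fin N => A)).injective
    rw [map_zero]
    funext i
    rw [Pi.zero_apply, ← hz i]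
    clear hz
    induction z with
    | zero => simp
    | add z z' h h' => simp only [map_add, Pi.add_apply, h, h']
    | tmul l d => simp [ψ]
  have hnzd : ∀ c : K ⊗[k] A, G c ∈ P → c = 0 := by
    intro c hc
    by_contra hne
    refine Set.disjoint_left.1 (Ideal.disjoint_nonZeroDivisors_of_mem_minimalPrimes hP) hc ?_
    refine mem_nonZeroDivisors_iff_right.2 fun z hz => ?_
    refine hψinj z fun i => ?_
    have h := hψ i c z
    rw [mul_comm (G c), hz, map_zero] at h
    exact (mul_eq_zero.1 h.symm).resolve_left hne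
  have hGi : G.toRingHom.IsIntegral := by
    intro z
    induction z with
    | zero => exact RingHom.isIntegralElem_zero _
    | add a b ha hb => exact RingHom.IsIntegralElem.add _ ha hb
    | tmul l d =>
      rw [show l ⊗ₜ[k] d = (l ⊗ₜ[k] (1 : D)) * ((1 : K) ⊗ₜ[k] d) by simp]
      refine RingHom.IsIntegralElem.mul _ ?_ ?_
      · rw [show l ⊗ₜ[k] (1 : D) = G.toRingHom (l ⊗ₜ 1) by simp [G]]
        exact RingHom.isIntegralElem_map _
      · obtain ⟨Q, hQ, hQd⟩ := (RingHom.IsIntegral.of_finite hfin) d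
        refine ⟨Q.map (Algebra.TensorProduct.includeRight (R := k) (A := K) (B := A)).toRingHom, hQ.map _, ?_⟩
        rw [Polynomial.eval₂_map]
        have hcomp : G.toRingHom.comp (Algebra.TensorProduct.includeRight (R := k) (A := K) (B := A)).toRingHom =
            (Algebra.TensorProduct.includeRight (R := k) (A := K) (B := D)).toRingHom.comp f.toRingHom :=
          RingHom.ext fun x => by simp [G]
        rw [hcomp]
        exact (Polynomial.hom_eval₂ Q f.toRingHom _ d).symm.trans (by rw [hQd]; simp)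
  let g : K ⊗[k] A →+* (K ⊗[k] D) ⧸ P := (Ideal.Quotient.mk P).comp G.toRingHom
  have hg : Function.Injective g := (injective_iff_map_eq_zero g).2 fun c hc =>
    hnzd c (Ideal.Quotient.eq_zero_iff_mem.1 hc)
  have hgi : g.IsIntegral := RingHom.IsIntegral.trans _ _ hGi (RingHom.isIntegral_of_surjective _ Ideal.Quotient.mk_surjective)
  rw [← GrSegreLib.ringKrullDim_eq_of_integral_injective g hg hgi,
    ← GrSegreLib.ringKrullDim_eq_of_integral_injective f.toRingHom hf (RingHom.IsIntegral.of_finite hfin),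
    ringKrullDim_eq_of_ringEquiv (MvPolynomial.algebraTensorAlgEquiv k K).toRingEquiv,
    MvPolynomial.ringKrullDim_of_isNoetherianRing, MvPolynomial.ringKrullDim_of_isNoetherianRing,
    ringKrullDim_eq_zero_of_field, ringKrullDim_eq_zero_of_field]

variable {S : Type u} [CommRing S] [Algebra k S] [Algebra.FiniteType k S]

variable (k S) in
/-- The local dimension is attained at a minimal prime and bounds the others. -/
theorem exists_localDim_data (p : PrimeSpectrum S) :
    ∃ d : ℕ, FlatMor.localDim (PrimeSpectrum S) p = d ∧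
      (∀ (P : PrimeSpectrum S) (n : ℕ), IsMin P → P ≤ p → Algebra.trdeg k (S ⧸ P.asIdeal) = n → n ≤ d) ∧
      ∃ P : PrimeSpectrum S, IsMin P ∧ P ≤ p ∧ Algebra.trdeg k (S ⧸ P.asIdeal) = d := by
  haveI : IsNoetherianRing S := Algebra.FiniteType.isNoetherianRing k S
  obtain ⟨P, hPmin, hPp, hPe⟩ := exists_isMin_relHeight_eq_height p
  obtain ⟨n, hn⟩ := exists_nat_trdeg_quotient k S P.asIdeal
  obtain ⟨r, hr⟩ := exists_nat_trdeg_quotient k S p.asIdeal
  obtain ⟨a, ha, hna⟩ := trdeg_eq_relHeight_add k S hPp n r hn hr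
  have hub : ∀ (Q : PrimeSpectrum S) (m : ℕ), IsMin Q → Q ≤ p → Algebra.trdeg k (S ⧸ Q.asIdeal) = m → m ≤ n := by
    intro Q m _ hQp hm
    obtain ⟨b, hb, hmb⟩ := trdeg_eq_relHeight_add k S hQp m r hm hr
    have h := relHeight_le_height hQp
    rw [hb, ← hPe, ha] at h
    have h' : b ≤ a := by exact_mod_cast h
    omega
  exact ⟨n, (localDim_bounds k S p n hub ⟨P, hPp, hn⟩).1, hub, P, hPmin, hPp, hn⟩

/-- A minimal prime after extending the field has the same dimension as its contraction. -/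
theorem trdeg_minimal (P : Ideal S) [P.IsPrime] (P' : PrimeSpectrum (K ⊗[k] S)) (hP' : IsMin P')
    (hc : P = P'.asIdeal.comap (Algebra.TensorProduct.includeRight : S →ₐ[k] K ⊗[k] S).toRingHom) (n : ℕ)
    (hn : Algebra.trdeg k (S ⧸ P) = n) : Algebra.trdeg K ((K ⊗[k] S) ⧸ P'.asIdeal) = n := by
  let ψ : K ⊗[k] S →ₐ[K] K ⊗[k] (S ⧸ P) := Algebra.TensorProduct.map (AlgHom.id K K) (Ideal.Quotient.mkₐ k P)
  have hψs : Function.Surjective ψ := by
    intro z
    induction z with
    | zero => exact ⟨0, map_zero _⟩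
    | add z z' h h' => obtain ⟨a, rfl⟩ := h; obtain ⟨b, rfl⟩ := h'; exact ⟨a + b, map_add _ _ _⟩
    | tmul l d =>
      obtain ⟨x, rfl⟩ := Ideal.Quotient.mk_surjective d
      exact ⟨l ⊗ₜ[k] x, by simp [ψ]⟩
  have hker : RingHom.ker ψ ≤ P'.asIdeal := by
    have hm := Algebra.TensorProduct.lTensor_ker (R := k) (A := K) (Ideal.Quotient.mkₐ k P) Ideal.Quotient.mk_surjective
    rw [show RingHom.ker ψ = RingHom.ker (Algebra.TensorProduct.map (AlgHom.id k K) (Ideal.Quotient.mkₐ k P)) from rfl, hm,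
      Ideal.map_le_iff_le_comap]
    intro x hx
    have hx' : x ∈ P := (Ideal.Quotient.eq_zero_iff_mem).1 hx
    rw [hc] at hx'
    exact hx'
  let P'' := P'.asIdeal.map ψ.toRingHom
  haveI : P''.IsPrime := Ideal.map_isPrime_of_surjective hψs hker
  have hcm : P''.comap ψ.toRingHom = P'.asIdeal := by
    refine (Ideal.comap_map_of_surjective ψ.toRingHom hψs P'.asIdeal).trans ?_
    exact sup_eq_left.2 hker
  have hP'' : P'' ∈ minimalPrimes (K ⊗[k] (S ⧸ P)) := by
    refine ⟨⟨inferInstance, bot_le⟩, fun Q hQ hle => ?_⟩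
    haveI := hQ.1
    have h1 : P' ≤ ⟨Q.comap ψ.toRingHom, inferInstance⟩ := hP' (by
      show Q.comap ψ.toRingHom ≤ P'.asIdeal
      rw [← hcm]; exact Ideal.comap_mono hle)
    exact (Ideal.map_mono (f := ψ.toRingHom) h1).trans_eq (Ideal.map_comap_of_surjective _ hψs _)
  have h := ringKrullDim_minimalPrime K P'' hP''
  rw [ringKrullDim_eq_trdeg k n hn] at h
  let e : ((K ⊗[k] S) ⧸ P'.asIdeal) ≃+* ((K ⊗[k] (S ⧸ P)) ⧸ P'') :=
    RingEquiv.ofBijective (Ideal.quotientMap P'' ψ.toRingHom (by rw [hcm]))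
      ⟨Ideal.quotientMap_injective' (by rw [hcm]), Ideal.quotientMap_surjective hψs⟩
  rw [← ringKrullDim_eq_of_ringEquiv e] at h
  obtain ⟨n', hn'⟩ := exists_nat_trdeg_quotient K (K ⊗[k] S) P'.asIdeal
  rw [ringKrullDim_eq_trdeg K n' hn'] at h
  rw [hn']
  exact_mod_cast h

attribute [local instance] Algebra.TensorProduct.rightAlgebra

/-- Local dimensions do not change under extension of the ground field. -/
theorem localDim_tensor (q : PrimeSpectrum (K ⊗[k] S)) :
    FlatMor.localDim (PrimeSpectrum (K ⊗[k] S)) q = FlatMor.localDim (PrimeSpectrum S)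
      (PrimeSpectrum.comap (Algebra.TensorProduct.includeRight : S →ₐ[k] K ⊗[k] S).toRingHom q) := by
  let ι : S →+* K ⊗[k] S := (Algebra.TensorProduct.includeRight : S →ₐ[k] K ⊗[k] S).toRingHom
  let p := PrimeSpectrum.comap ι q
  obtain ⟨d, hd, hub, P₀, hP₀min, hP₀p, hP₀d⟩ := exists_localDim_data k S p
  haveI : Module.Flat S (K ⊗[k] S) := Module.Flat.of_linearEquiv
    ({ Algebra.TensorProduct.comm k S K with commutes' := fun s => by rfl } : S ⊗[k] K ≃ₐ[S] K ⊗[k] S).toLinearEquiv.symm
  have hmin : ∀ P' : PrimeSpectrum (K ⊗[k] S), IsMin P' → IsMin (PrimeSpectrum.comap ι P') := by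
    intro P' hP' Q hQ
    haveI : (P'.asIdeal).LiesOver (P'.asIdeal.comap ι) := ⟨rfl⟩
    obtain ⟨Q', hQ'le, hQ'p, hQ'over⟩ := Ideal.exists_ideal_le_liesOver_of_le (p := Q.asIdeal)
      (q := P'.asIdeal.comap ι) P'.asIdeal hQ
    have h : P' ≤ ⟨Q', hQ'p⟩ := hP' hQ'le
    show (PrimeSpectrum.comap ι P').asIdeal ≤ Q.asIdeal
    rw [show Q.asIdeal = Q'.comap ι from hQ'over.over]
    exact Ideal.comap_mono h
  have hdim : ∀ P' : PrimeSpectrum (K ⊗[k] S), IsMin P' → ∀ n : ℕ,
      Algebra.trdeg k (S ⧸ (PrimeSpectrum.comap ι P').asIdeal) = n →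
      Algebra.trdeg K ((K ⊗[k] S) ⧸ P'.asIdeal) = n :=
    fun P' hP' n hn => trdeg_minimal K (PrimeSpectrum.comap ι P').asIdeal P' hP' rfl n hn
  rw [hd]
  refine (localDim_bounds K (K ⊗[k] S) q d (fun P' m hP' hle hm => ?_) ?_).1
  · obtain ⟨n, hn⟩ := exists_nat_trdeg_quotient k S (PrimeSpectrum.comap ι P').asIdeal
    have : n = m := by exact_mod_cast (hdim P' hP' n hn).symm.trans hm
    exact this ▸ hub _ n (hmin P' hP') (Ideal.comap_mono hle) hn
  · haveI : (q.asIdeal).LiesOver p.asIdeal := ⟨rfl⟩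
    obtain ⟨Q', hQ'le, hQ'p, hQ'over⟩ := Ideal.exists_ideal_le_liesOver_of_le (p := P₀.asIdeal) (q := p.asIdeal) q.asIdeal hP₀p
    obtain ⟨M, hM, hMle⟩ := Ideal.exists_minimalPrimes_le (I := (⊥ : Ideal (K ⊗[k] S))) (J := Q') bot_le
    haveI := hM.1.1
    let P' : PrimeSpectrum (K ⊗[k] S) := ⟨M, inferInstance⟩
    have hP' : IsMin P' := PrimeSpectrum.isMin_iff.2 hM
    have he : PrimeSpectrum.comap ι P' = P₀ := le_antisymm
      (show M.comap ι ≤ P₀.asIdeal by rw [show P₀.asIdeal = Q'.comap ι from hQ'over.over]; exact Ideal.comap_mono hMle)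
      (hP₀min (show M.comap ι ≤ P₀.asIdeal by rw [show P₀.asIdeal = Q'.comap ι from hQ'over.over]; exact Ideal.comap_mono hMle))
    exact ⟨P', hMle.trans hQ'le, hdim P' hP' d (he ▸ hP₀d)⟩

end Groth.Agent.LocDimBC
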